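import Groth.Agent.CurveQProj.Affine

/-!
# A curve is affine or projective
-/

set_option autoImplicit false
set_option backward.isDefEq.respectTransparency false
set_option backward.isDefEq.respectTransparency.types false
set_option linter.style.haveILetI false

noncomputable section

universe u

open CategoryTheory CategoryTheory.Limits AlgebraicGeometry TopologicalSpace

namespace Groth.Agent.CurveQProj

/-- An integral separated finite type scheme of dimension at most one is affine or projective. -/
theorem affine_or_projective (k : Type u) [Field k] {X : Scheme.{u}} (f : X ⟶ Spec (CommRingCat.of k))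
    [IsIntegral X] [IsSeparated f] [LocallyOfFiniteType f] [QuasiCompact f] (hdim : topologicalKrullDim X ≤ 1) :
    IsAffine X ∨ ∃ (d : ℕ) (c : X ⟶ CohB1.ProjSpace d k), IsClosedImmersion c ∧ c ≫ CohB1.ProjSpace.toSpec d k = f := by
  obtain ⟨d, Y, c, j, hc, hj, hjc, hdense, hdom, hfin, -, hY1⟩ := exists_completion k f hdim
  haveI := hc
  haveI := hj
  haveI : IsProper (CohB1.ProjSpace.toSpec d k) := ProjCoord.isProper_baseMap (n := d) (R := k)
  letI : Y.Over (Spec (CommRingCat.of k)) := ⟨c ≫ CohB1.ProjSpace.toSpec d k⟩
  haveI : IsProper (Y ↘ Spec (CommRingCat.of k)) := inferInstanceAs (IsProper (c ≫ CohB1.ProjSpace.toSpec d k))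
  haveI : IsLocallyNoetherian Y := LocallyOfFiniteType.isLocallyNoetherian (Y ↘ Spec (CommRingCat.of k))
  haveI : QuasiCompact j := inferInstance
  haveI := hdom
  haveI : IsReduced Y := IsSchemeTheoreticallyDominant.isReduced j
  haveI : Nonempty Y := ⟨j (genericPoint X)⟩
  haveI : IrreducibleSpace Y := by
    rw [irreducibleSpace_def]
    have h1 := (IrreducibleSpace.isIrreducible_univ X).image j j.continuous.continuousOn
    have h2 := h1.closure
    rwa [Set.image_univ, hdense.closure_eq] at h2
  haveI : IsIntegral Y := isIntegral_of_irreducibleSpace_of_isReduced Y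
  by_cases htop : j.opensRange = ⊤
  · haveI : Surjective j := ⟨fun y => show y ∈ j.opensRange by rw [htop]; trivial⟩
    haveI : IsIso j := (isIso_iff_isOpenImmersion_and_surjective j).2 ⟨inferInstance, inferInstance⟩
    refine Or.inr ⟨d, j ≫ c, inferInstance, ?_⟩
    rw [Category.assoc]; exact hjc
  · refine Or.inl ?_
    have hdimY : topologicalKrullDim Y ≤ 1 := by
      rw [DimTheory.topologicalKrullDim_eq_iSup_height]
      exact iSup_le fun y => WithBot.coe_le_coe.2 (hY1 y)
    have h := isAffineOpen_compl (k := k) hdimY j.opensRange ⟨j (genericPoint X), _, rfl⟩ htop hfin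
    haveI : IsAffine j.opensRange.toScheme := h
    exact IsAffine.of_isIso j.isoOpensRange.hom

end Groth.Agent.CurveQProj
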