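import Groth.Agent.CurveQProj.Basic
import Groth.Agent.ModPairLib.Closure
import Groth.Agent.DimTheory.LocClosed
import Groth.Agent.DimTheory.IrrFibres
import Mathlib.AlgebraicGeometry.Morphisms.SchemeTheoreticallyDominant

/-!
# Projective completion in dimension at most one
-/

set_option autoImplicit false
set_option backward.isDefEq.respectTransparency false
set_option backward.isDefEq.respectTransparency.types false
set_option linter.style.haveILetI false

noncomputable section

universe u

open CategoryTheory CategoryTheory.Limits AlgebraicGeometry TopologicalSpace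

namespace Groth.Agent.CurveQProj

/-- A closed set of a Noetherian sober space all of whose points are closed is finite. -/
theorem finite_of_forall_closed {Y : Scheme.{u}} [NoetherianSpace Y] {C : Set Y} (hC : IsClosed C)
    (h : ∀ y ∈ C, IsClosed ({y} : Set Y)) : C.Finite := by
  obtain ⟨S, hS, hSc, hSi, hSC⟩ := NoetherianSpace.exists_finite_set_isClosed_irreducible hC
  rw [hSC]
  refine hS.sUnion fun F hF => ?_
  obtain ⟨g, hg⟩ := QuasiSober.sober (hSi F hF) (hSc F hF)
  have hgC : g ∈ C := hSC ▸ Set.mem_sUnion_of_mem hg.mem hF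
  rw [← hg.def, (h g hgC).closure_eq]
  exact Set.finite_singleton g

/-- Every point of a Noetherian scheme is a specialization of a maximal point, from a finite set. -/
theorem exists_finite_generalizing (X : Scheme.{u}) [NoetherianSpace X] :
    ∃ S : Set X, S.Finite ∧ ∀ x : X, ∃ ξ ∈ S, ξ ⤳ x := by
  obtain ⟨T, hT, hTc, hTi, hTu⟩ :=
    NoetherianSpace.exists_finite_set_isClosed_irreducible (isClosed_univ (X := X))
  choose g hg using fun F : T => QuasiSober.sober (hTi F.1 F.2) (hTc F.1 F.2)
  haveI := hT.to_subtype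
  refine ⟨Set.range g, Set.finite_range g, fun x => ?_⟩
  obtain ⟨F, hF, hxF⟩ := (hTu ▸ Set.mem_univ x : x ∈ ⋃₀ T)
  exact ⟨g ⟨F, hF⟩, ⟨_, rfl⟩, (hg ⟨F, hF⟩).specializes hxF⟩

/-- Projective completion with finitely many closed points at infinity. -/
theorem exists_completion (k : Type u) [Field k] {X : Scheme.{u}} (f : X ⟶ Spec (CommRingCat.of k))
    [IsSeparated f] [LocallyOfFiniteType f] [QuasiCompact f] (hdim : topologicalKrullDim X ≤ 1) :
    ∃ (d : ℕ) (Y : Scheme.{u}) (c : Y ⟶ CohB1.ProjSpace d k) (j : X ⟶ Y), IsClosedImmersion c ∧ IsOpenImmersion j ∧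
      j ≫ c ≫ CohB1.ProjSpace.toSpec d k = f ∧ Dense (Set.range j.base) ∧ IsSchemeTheoreticallyDominant j ∧
      (Set.range j.base)ᶜ.Finite ∧ (∀ y ∈ (Set.range j.base)ᶜ, IsClosed ({y} : Set Y)) ∧
      ∀ y : Y, Order.height y ≤ 1 := by
  obtain ⟨d, i, hi, hqc, hif⟩ := exists_immersion f (exists_ample_of_finiteType f hdim)
  haveI := hi
  haveI := hqc
  haveI : IsProper (CohB1.ProjSpace.toSpec d k) := ProjCoord.isProper_baseMap (n := d) (R := k)
  let Y := i.image
  let c : Y ⟶ CohB1.ProjSpace d k := i.imageι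
  let j : X ⟶ Y := i.toImage
  let q := c ≫ CohB1.ProjSpace.toSpec d k
  have hjq : j ≫ q = f := by
    show i.toImage ≫ i.imageι ≫ _ = f
    rw [Scheme.Hom.toImage_imageι_assoc]; exact hif
  haveI : IsLocallyNoetherian X := LocallyOfFiniteType.isLocallyNoetherian f
  haveI : CompactSpace X := QuasiCompact.compactSpace_of_compactSpace f
  haveI : IsLocallyNoetherian Y := LocallyOfFiniteType.isLocallyNoetherian q
  haveI : CompactSpace Y := QuasiCompact.compactSpace_of_compactSpace q
  haveI : IsNoetherian X := {}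
  haveI : IsNoetherian Y := {}
  have hdom : IsSchemeTheoreticallyDominant j := ModPairLib.std_toImage i
  have hdense : DenseRange j := j.denseRange
  have hX1 : ∀ x : X, Order.height x ≤ 1 := fun x => by
    have := (DimTheory.topologicalKrullDim_eq_iSup_height X).ge.trans hdim
    exact WithBot.coe_le_coe.1 ((le_iSup (fun z : X => (Order.height z : WithBot ℕ∞)) x).trans this)
  obtain ⟨S, hS, hSgen⟩ := exists_finite_generalizing X
  have hgen : ∀ y : Y, ∃ ξ : X, j ξ ⤳ y := fun y => by
    have hsub : Set.range j ⊆ ⋃ ξ ∈ S, closure ({j ξ} : Set Y) := by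
      rintro _ ⟨x, rfl⟩
      obtain ⟨ξ, hξ, hξx⟩ := hSgen x
      exact Set.mem_iUnion₂.2 ⟨ξ, hξ, specializes_iff_mem_closure.1 (hξx.map j.continuous)⟩
    have hy := closure_minimal hsub (hS.isClosed_biUnion fun _ _ => isClosed_closure) (hdense y)
    obtain ⟨ξ, -, hξ⟩ := Set.mem_iUnion₂.1 hy
    exact ⟨ξ, specializes_iff_mem_closure.2 hξ⟩
  have hY1 : ∀ y : Y, Order.height y ≤ 1 := fun y => by
    obtain ⟨ξ, hξ⟩ := hgen y
    exact (Order.height_mono (show y ≤ j ξ from hξ)).trans ((DimTheory.height_immersion q j ξ).le.trans (hX1 ξ))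
  have hclosed : ∀ y ∈ (Set.range j.base)ᶜ, IsClosed ({y} : Set Y) := fun y hy => by
    obtain ⟨ξ, hξ⟩ := hgen y
    refine DimTheory.isClosed_of_height_eq_zero ?_
    by_contra h0
    have hlt : y < j ξ := by
      rw [lt_iff_le_not_ge]
      exact ⟨hξ, fun h => hy ⟨ξ, (hξ.antisymm h).eq⟩⟩
    have h1 : Order.height y + 1 ≤ Order.height (j ξ) := Order.height_add_one_le hlt
    have h2 : (1 : ℕ∞) ≤ Order.height y := Order.one_le_iff_pos.2 (pos_iff_ne_zero.2 h0)
    have h3 := (add_le_add h2 le_rfl).trans (h1.trans (hY1 (j ξ)))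
    norm_num at h3
  exact ⟨d, Y, c, j, inferInstance, inferInstance, hjq, hdense, hdom,
    finite_of_forall_closed j.isOpenEmbedding.isOpen_range.isClosed_compl hclosed, hclosed, hY1⟩

end Groth.Agent.CurveQProj
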