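import Groth.Agent.CurveQProj.TwoCech
import Groth.Agent.CurveQProj.Completion
import Groth.Agent.DimOneAmple.Main
import Groth.Agent.GenLocus.Ample
import Mathlib.AlgebraicGeometry.ZariskisMainTheorem
import Mathlib.AlgebraicGeometry.Morphisms.Immersion

/-!
# The complement of a non-empty finite set of closed points in a proper curve is affine
-/

set_option autoImplicit false
set_option backward.isDefEq.respectTransparency false
set_option backward.isDefEq.respectTransparency.types false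
set_option linter.style.haveILetI false

noncomputable section

universe u

open CategoryTheory CategoryTheory.Limits AlgebraicGeometry Opposite TopologicalSpace WithZero Polynomial
open Groth.Agent.QCohBase

namespace Groth.Agent.CurveQProj

local notation "Γ₀" => WithZero (Multiplicative ℤ)

/-- The top power dominates. -/
theorem map_top_term {R : Type u} [CommRing R] (v : Valuation R Γ₀) {a r : R} {N : ℕ} (c : Fin N → R)
    (hc : ∀ m, v (c m) ≤ 1) (hr : v r ≤ 1) (ha : 1 < v a) :
    v (a ^ (N + 1) + ∑ m, c m * a ^ ((m : ℕ) + 1) + r) = v a ^ (N + 1) := by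
  rw [add_assoc, ← map_pow v a]
  refine Valuation.map_add_eq_of_lt_left _ ?_
  rw [map_pow]
  refine lt_of_le_of_lt (v.map_add _ _) (max_lt ?_ (hr.trans_lt (one_lt_pow₀ ha (by omega))))
  refine Valuation.map_sum_lt v (pow_ne_zero _ (ne_of_gt (zero_lt_one.trans ha))) fun m _ => ?_
  rw [map_mul, map_pow]
  refine lt_of_le_of_lt (mul_le_of_le_one_left' (hc m)) ?_
  exact pow_lt_pow_right₀ ha (by omega)

variable {k : Type u} [Field k] {Y : Scheme.{u}} [Y.Over (Spec (CommRingCat.of k))]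
  [IsProper (Y ↘ Spec (CommRingCat.of k))] [IsIntegral Y]

/-- A function on the complement with poles at every branch of every removed point. -/
theorem exists_poles (hdim : topologicalKrullDim Y ≤ 1) (X : Y.Opens) (hX : (X : Set Y).Nonempty)
    (hfin : ((X : Set Y)ᶜ).Finite) :
    ∃ H : Γ(Y, X), ∀ c, c ∉ X → ∃ (N : ℕ) (W : Y.Opens) (g : Γ(Y, W)) (U : Y.Opens) (hUX : U ≤ X)
      (ι : Type u) (w : ι → Valuation Γ(Y, U) Γ₀),
      0 < N ∧ c ∈ W ∧ c ∉ Y.basicOpen g ∧
      ores (inf_le_left : W ⊓ X ≤ W) g * ores (inf_le_right : W ⊓ X ≤ X) (H ^ N) = 1 ∧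
      Nonempty ι ∧ (∀ i (a : k), w i (const U a) ≤ 1) ∧ ∀ i, 1 < w i (ores hUX H) := by
  classical
  haveI : IsLocallyNoetherian Y := LocallyOfFiniteType.isLocallyNoetherian (Y ↘ Spec (CommRingCat.of k))
  haveI : CompactSpace Y := QuasiCompact.compactSpace_of_compactSpace (Y ↘ Spec (CommRingCat.of k))
  haveI : IsNoetherian Y := {}
  haveI : Y.IsSeparated := ⟨by
    rw [← terminal.comp_from (Y ↘ Spec (CommRingCat.of k))]
    infer_instance⟩
  let C : Set Y := (X : Set Y)ᶜ
  let η := genericPoint Y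
  have hηmem : ∀ {O : Y.Opens}, (O : Set Y).Nonempty → η ∈ O := fun {O} hne =>
    ((genericPoint_spec Y).mem_open_set_iff O.2).2 (by simpa using hne)
  have hdense : ∀ {O : Y.Opens}, η ∈ O → Dense (O : Set Y) := fun {O} h => O.2.dense ⟨η, h⟩
  obtain ⟨A, hCA, hA, hAd⟩ := DimOneAmple.exists_dense_affine_of_finite hdim hfin
  have hηA : η ∈ A := hηmem hAd.nonempty
  obtain ⟨L, hL⟩ := DimOneAmple.exists_ample hdim
  obtain ⟨n, sB, hBsub, hBX, hB⟩ := GenLocus.exists_affine_genLocus_of_finite hL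
    ((DimOneAmple.finite_compl hdim hA hAd).union (Set.finite_singleton η)) X (by
      rintro y (hy | rfl)
      · exact by_contra fun h => hy (hCA h)
      · exact hηmem hX)
  set B := CohB1.genLocus _ sB
  have hcov : A ⊔ B = ⊤ := eq_top_iff.2 fun y _ => by
    by_cases hy : y ∈ A
    · exact Or.inl hy
    · exact Or.inr (hBsub (Or.inl hy))
  haveI : Nonempty A := ⟨⟨η, hηA⟩⟩
  haveI : IsDomain Γ(Y, A) := inferInstance
  let P : ∀ c ∈ C, PrimeSpectrum Γ(Y, A) := fun c hc => hA.primeIdealOf ⟨c, hCA hc⟩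
  have hmem : ∀ y (hy : y ∈ A) (b : Γ(Y, A)), y ∈ Y.basicOpen b ↔ b ∉ (hA.primeIdealOf ⟨y, hy⟩).asIdeal :=
    fun y hy b => by
      have h1 : hA.fromSpec (hA.primeIdealOf ⟨y, hy⟩) = y := hA.fromSpec_primeIdealOf ⟨y, hy⟩
      rw [← PrimeSpectrum.mem_basicOpen, ← hA.fromSpec_preimage_basicOpen]
      show _ ↔ hA.fromSpec (hA.primeIdealOf ⟨y, hy⟩) ∈ Y.basicOpen b
      rw [h1]
  haveI : Fintype C := hfin.fintype
  -- an element vanishing at all removed points
  have hne : ∀ c : C, ∃ z : Γ(Y, A), z ≠ 0 ∧ z ∈ (P c.1 c.2).asIdeal := fun c => by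
    by_contra! hno
    have hbot : (P c.1 c.2).asIdeal = ⊥ := le_antisymm (fun z hz => by_contra fun hz0 => hno z (fun h => hz0 (h ▸ Ideal.zero_mem _)) hz) bot_le
    obtain ⟨z, hz, hz'⟩ : ∃ z : Γ(Y, A), Y.basicOpen z ≤ X ⊓ A ∧ η ∈ Y.basicOpen z :=
      hA.exists_basicOpen_le (V := X ⊓ A) ⟨η, hηmem hX, hηA⟩ hηA
    have hcz : c.1 ∉ Y.basicOpen z := fun h => c.2 (hz h).1
    rw [hmem c.1 (hCA c.2), not_not] at hcz
    have : z ∈ (⊥ : Ideal Γ(Y, A)) := hbot ▸ hcz
    rw [Ideal.mem_bot.1 this] at hz'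
    simp [Scheme.basicOpen_zero] at hz'
  choose z hz0 hzP using hne
  let s := ∏ c, z c
  have hs0 : s ≠ 0 := Finset.prod_ne_zero_iff.2 fun c _ => hz0 c
  have hsC : ∀ c (hc : c ∈ C), s ∈ (P c hc).asIdeal := fun c hc =>
    DimOneAmple.prod_mem_of_mem z _ ⟨c, hc⟩ (hzP ⟨c, hc⟩)
  let U := Y.basicOpen s
  have hUA : U ≤ A := Y.basicOpen_le s
  have hUX : U ≤ X := fun y hy => by_contra fun h => ((hmem y (hCA h) s).1 hy) (hsC y h)
  have hUne : (U : Set Y).Nonempty := by
    by_contra h
    exact hs0 (basicOpen_eq_bot_iff s |>.1 (Opens.ext (Set.not_nonempty_iff_eq_empty.1 h)))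
  have hUd : Dense (U : Set Y) := hdense (hηmem hUne)
  have hU : IsAffineOpen U := hA.basicOpen s
  -- an element vanishing at the other zeros of `s`
  let F : Set Y := ((A : Set Y) \ (U : Set Y)) \ C
  have hFfin : F.Finite := (DimOneAmple.finite_compl hdim hU hUd).subset fun y hy => hy.1.2
  have hmax : ∀ y (hy : y ∈ A), y ∉ U → (hA.primeIdealOf ⟨y, hy⟩).asIdeal.IsMaximal := fun y hy hyU => by
    haveI := DimOneAmple.krullDimLE_one_sections hA hdim
    refine (Ring.krullDimLE_one_iff_of_noZeroDivisors.1 inferInstance) _ ?_ inferInstance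
    intro h
    have := (hmem y hy s).2.mt hyU
    rw [not_not, h, Ideal.mem_bot] at this
    exact hs0 this
  haveI : Fintype F := hFfin.fintype
  obtain ⟨b, hbF, hbC⟩ : ∃ b : Γ(Y, A), (∀ y (hy : y ∈ F), b ∈ (hA.primeIdealOf ⟨y, hy.1.1⟩).asIdeal) ∧
      ∀ c (hc : c ∈ C), b ∉ (P c hc).asIdeal := by
    let I : Ideal Γ(Y, A) := ∏ y : F, (hA.primeIdealOf ⟨y.1, y.2.1.1⟩).asIdeal
    have hI : ¬ (I : Set Γ(Y, A)) ⊆ ⋃ c ∈ (Finset.univ : Finset C), ((P c.1 c.2).asIdeal : Set Γ(Y, A)) := by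
      intro hsub
      rcases isEmpty_or_nonempty C with hC | ⟨⟨c₀⟩⟩
      · obtain ⟨c, -, -⟩ := Set.mem_iUnion₂.1 (hsub I.zero_mem)
        exact hC.false c
      obtain ⟨c, -, hle⟩ := (Ideal.subset_union_prime c₀ c₀ (fun c _ _ _ => (P c.1 c.2).isPrime)).1
        (by simpa using hsub : (I : Set Γ(Y, A)) ⊆ ⋃ c ∈ ((Finset.univ : Finset C) : Set C), ((P c.1 c.2).asIdeal : Set Γ(Y, A)))
      obtain ⟨y, -, hy⟩ := (P c.1 c.2).isPrime.prod_le.1 hle
      have hcU : c.1 ∉ U := fun h => (hmem c.1 (hCA c.2) s).1 h (hsC c.1 c.2)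
      have e := congrArg hA.fromSpec (PrimeSpectrum.ext ((hmax y.1 y.2.1.1 y.2.1.2).eq_of_le (P c.1 c.2).isPrime.ne_top hy) :
        hA.primeIdealOf ⟨y.1, y.2.1.1⟩ = P c.1 c.2)
      have e' : y.1 = c.1 := by
        rwa [show hA.fromSpec (hA.primeIdealOf ⟨y.1, y.2.1.1⟩) = y.1 from hA.fromSpec_primeIdealOf _,
          show hA.fromSpec (P c.1 c.2) = c.1 from hA.fromSpec_primeIdealOf _] at e
      exact y.2.2 (e' ▸ c.2)
    obtain ⟨b, hbI, hb⟩ := Set.not_subset.1 hI
    refine ⟨b, fun y hy => ?_, fun c hc h => hb (Set.mem_iUnion₂.2 ⟨⟨c, hc⟩, Finset.mem_univ _, h⟩)⟩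
    exact Ideal.le_of_dvd (Finset.dvd_prod_of_mem _ (Finset.mem_univ (⟨y, hy⟩ : F))) hbI
  -- `b ^ M / s` is regular on `A` minus the removed points
  obtain ⟨si, hsi⟩ : ∃ si : Γ(Y, U), si * ores hUA s = 1 :=
    (show IsUnit (ores hUA s) from RingedSpace.isUnit_res_basicOpen Y.toRingedSpace s).exists_left_inv
  obtain ⟨a, hUa, M, hM⟩ : ∃ (a : Γ(Y, A ⊓ X)) (hUa : U ≤ A ⊓ X) (M : ℕ),
      ores hUa a = ores hUA b ^ M * si := by
    have hloc : ∀ y : F, ∃ (M : ℕ) (O : Y.Opens) (hO : O ≤ A) (r : Γ(Y, O)), y.1 ∈ O ∧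
        ores hO s * r = ores hO b ^ M := fun y => by
      let p := (hA.primeIdealOf ⟨y.1, y.2.1.1⟩).asIdeal
      haveI := hmax y.1 y.2.1.1 y.2.1.2
      haveI : Ring.KrullDimLE 1 Γ(Y, A) := DimOneAmple.krullDimLE_one_sections hA hdim
      let R := Localization.AtPrime p
      haveI : Ring.KrullDimLE 1 R := DimOneAmple.krullDimLE_one_atPrime p
      have hrad : algebraMap Γ(Y, A) R b ∈ (Ideal.span {algebraMap Γ(Y, A) R s}).radical := by
        rw [Ideal.radical_eq_sInf]
        refine Ideal.mem_sInf.2 fun {q} ⟨hsq, hq⟩ => ?_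
        have hs' : algebraMap Γ(Y, A) R s ≠ 0 := fun h =>
          hs0 ((IsLocalization.to_map_eq_zero_iff R p.primeCompl_le_nonZeroDivisors).1 h)
        have hq0 : q ≠ ⊥ := fun h => hs' (Ideal.mem_bot.1 (h ▸ hsq (Ideal.mem_span_singleton_self _)))
        haveI : IsDomain R := IsLocalization.isDomain_localization p.primeCompl_le_nonZeroDivisors
        rw [IsLocalRing.eq_maximalIdeal ((Ring.krullDimLE_one_iff_of_noZeroDivisors.1 inferInstance) q hq0 hq),
          ← Localization.AtPrime.map_eq_maximalIdeal]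
        exact Ideal.mem_map_of_mem _ (hbF y.1 y.2)
      obtain ⟨M, hM⟩ := hrad
      obtain ⟨r, hr⟩ := Ideal.mem_span_singleton'.1 hM
      obtain ⟨⟨r₀, d⟩, hd⟩ := IsLocalization.surj p.primeCompl r
      obtain ⟨d', hd'⟩ := (IsLocalization.eq_iff_exists p.primeCompl R (x := r₀ * s) (y := b ^ M * d.1)).1 (by
        rw [map_mul, map_mul, ← hd, map_pow, ← hr]; ring)
      have hy : y.1 ∈ Y.basicOpen (d'.1 * d.1) :=
        (hmem _ y.2.1.1 _).2 fun h => (Ideal.IsPrime.mem_or_mem inferInstance h).elim d'.2 d.2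
      let O := Y.basicOpen (d'.1 * d.1)
      have hO : O ≤ A := Y.basicOpen_le _
      obtain ⟨e, he⟩ := (show IsUnit (ores hO (d'.1 * d.1)) from
        RingedSpace.isUnit_res_basicOpen Y.toRingedSpace _).exists_left_inv
      refine ⟨M, O, hO, e * ores hO (d'.1 * r₀), hy, ?_⟩
      have e1 := congrArg (ores hO) hd'
      simp only [map_mul, map_pow] at e1 he ⊢
      linear_combination e * e1 + ores hO b ^ M * he
    choose My O hO r hyO hr using hloc
    let M := ∑ y, My y
    have hMy : ∀ y, My y ≤ M := fun y => Finset.single_le_sum (f := My) (fun _ _ => Nat.zero_le _) (Finset.mem_univ y)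
    let V : Option F → Y.Opens := fun o => o.elim U fun y => O y ⊓ X
    have hV : ∀ o, V o ≤ A ⊓ X := by
      rintro (_ | y)
      · exact le_inf hUA hUX
      · exact inf_le_inf_right _ (hO y)
    let v : ∀ o, Γ(Y, V o) := fun o =>
      match o with
      | none => ores hUA b ^ M * si
      | some y => ores (inf_le_left : O y ⊓ X ≤ O y) (r y * ores (hO y) b ^ (M - My y))
    have hv : ∀ o, ores ((hV o).trans inf_le_left) s * v o = ores ((hV o).trans inf_le_left) b ^ M := by
      rintro (_ | y)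
      · show ores hUA s * (ores hUA b ^ M * si) = ores hUA b ^ M
        linear_combination ores hUA b ^ M * hsi
      · show ores (inf_le_left.trans (hO y)) s * ores inf_le_left (r y * ores (hO y) b ^ (M - My y)) = _
        have e := congrArg (ores (inf_le_left : O y ⊓ X ≤ O y)) (hr y)
        simp only [map_mul, map_pow, ores_ores] at e ⊢
        rw [← mul_assoc, e, ← pow_add, Nat.add_sub_cancel' (hMy y)]
        rfl
    have hcov' : A ⊓ X ≤ ⨆ o, V o := fun y hy => by
      by_cases hyU : y ∈ U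
      · exact Opens.mem_iSup.2 ⟨none, hyU⟩
      · exact Opens.mem_iSup.2 ⟨some ⟨y, ⟨hy.1, hyU⟩, fun h => h hy.2⟩, hyO _, hy.2⟩
    have hsreg : ∀ {O' : Y.Opens} (h : O' ≤ A), IsLeftRegular (ores h s) := fun {O'} h => by
      by_cases hne : (O' : Set Y).Nonempty
      · haveI : Nonempty O' := hne.to_subtype
        refine IsRegular.left (isRegular_of_ne_zero fun h0 => hs0 ?_)
        exact map_injective_of_isIntegral Y (homOfLE h) (h0.trans (map_zero (ores h)).symm)
      · haveI : Subsingleton Γ(Y, O') := by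
          rw [Opens.ext (Set.not_nonempty_iff_eq_empty.1 hne) (V := ⊥)]
          infer_instance
        exact fun _ _ _ => Subsingleton.elim _ _
    obtain ⟨a, ha, -⟩ := Y.sheaf.existsUnique_gluing' V (A ⊓ X) (fun o => homOfLE (hV o)) hcov' v fun o o' => by
      refine hsreg ((inf_le_left : V o ⊓ V o' ≤ V o).trans ((hV o).trans inf_le_left)) ?_
      have e1 := congrArg (ores (inf_le_left : V o ⊓ V o' ≤ V o)) (hv o)
      have e2 := congrArg (ores (inf_le_right : V o ⊓ V o' ≤ V o')) (hv o')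
      simp only [map_mul, map_pow, ores_ores] at e1 e2
      exact e1.trans e2.symm
    exact ⟨a, le_inf hUA hUX, M, ha none⟩
  -- combination
  have hAB : A ⊓ B ≤ A ⊓ X := inf_le_inf_left _ hBX
  obtain ⟨N, c, α, β, hsplit⟩ := exists_combination (k := k) A B hA hB hcov fun n => ores hAB a ^ (n + 1)
  let η' : Γ(Y, A ⊓ X) := a ^ (N + 1) + ∑ m, const (A ⊓ X) (c m) * a ^ ((m : ℕ) + 1) + -ores inf_le_left α
  let V₂ : ULift.{u} Bool → Y.Opens := fun i => if i.down then B else A ⊓ X
  let v₂ : ∀ i, Γ(Y, V₂ i) := fun i =>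
    match i with
    | ⟨false⟩ => η'
    | ⟨true⟩ => β
  have hV₂ : ∀ i, V₂ i ≤ X := by
    rintro ⟨_ | _⟩
    exacts [inf_le_right, hBX]
  have hagree : ores (inf_le_left : (A ⊓ X) ⊓ B ≤ A ⊓ X) η' = ores inf_le_right β := by
    have h' : (A ⊓ X) ⊓ B ≤ A ⊓ B := inf_le_inf_right _ inf_le_left
    have e := congrArg (ores h') hsplit
    simp only [η', map_add, map_mul, map_pow, map_sum, map_neg, ores_ores, ores_const] at e ⊢
    rw [e]; abel
  obtain ⟨H, hH, -⟩ := Y.sheaf.existsUnique_gluing' V₂ X (fun i => homOfLE (hV₂ i))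
    (fun y hy => by
      rcases (Opens.mem_sup.1 (hcov.ge (Set.mem_univ y) : y ∈ A ⊔ B)) with h | h
      · exact Opens.mem_iSup.2 ⟨⟨false⟩, h, hy⟩
      · exact Opens.mem_iSup.2 ⟨⟨true⟩, h⟩) v₂ (by
    rintro ⟨_ | _⟩ ⟨_ | _⟩
    · rfl
    · exact hagree
    · have := congrArg (ores (show B ⊓ (A ⊓ X) ≤ (A ⊓ X) ⊓ B from (inf_comm _ _).le)) hagree
      rw [ores_ores, ores_ores] at this
      exact this.symm
    · rfl)
  refine ⟨H, fun x hx => ?_⟩
  obtain ⟨ι, hι, w, -, -, hwN, hwV⟩ := DimOneAmple.exists_local_valuations' hdim hU hA hUd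
    (fun h => hx (hUX h)) (hCA hx)
  have hH' : ores hUX H = ores hUa η' := by
    have e : ores (inf_le_right : A ⊓ X ≤ X) H = η' := hH ⟨false⟩
    rw [← e, ores_ores]
  have hwa : ∀ i, 1 < w i (ores hUa a) := fun i => by
    haveI : (P x hx).asIdeal.IsMaximal := hmax x (hCA hx) fun h => hx (hUX h)
    obtain ⟨d, z, hz, hdz⟩ := Ideal.IsMaximal.exists_inv ‹_› (hbC x hx)
    have h1 : w i (ores hUA (d * b)) = 1 := by
      rw [show d * b = 1 + -z by linear_combination hdz, map_add, map_one, map_neg]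
      refine (Valuation.map_add_eq_of_lt_left _ ?_).trans (map_one _)
      rw [map_one, Valuation.map_neg]
      exact (hwV hUA i z).2 hz
    have hb1 : w i (ores hUA b) = 1 := by
      refine le_antisymm (hwV hUA i b).1 (h1.ge.trans ?_)
      rw [map_mul, map_mul]
      exact mul_le_of_le_one_left' (hwV hUA i d).1
    rw [hM, map_mul, map_pow, hb1, one_pow, one_mul]
    have hws : w i (ores hUA s) < 1 := (hwV hUA i s).2 (hsC x hx)
    have hprod : w i si * w i (ores hUA s) = 1 := by rw [← map_mul, hsi, map_one]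
    by_contra! hle
    exact (lt_of_le_of_lt (mul_le_of_le_one_left' hle) hws).ne hprod
  have hwc : ∀ i (a : k), w i (const U a) ≤ 1 := fun i a => by
    rw [← ores_const hUA]; exact (hwV hUA i _).1
  have hwH : ∀ i, 1 < w i (ores hUX H) := fun i => by
    rw [hH']
    simp only [η', map_add (ores hUa), map_mul (ores hUa), map_pow (ores hUa), map_sum (ores hUa),
      map_neg (ores hUa), ores_ores, ores_const]
    rw [map_top_term (w i) (fun m => const U (c m)) (fun m => hwc i _) (by rw [Valuation.map_neg]; exact (hwV _ i α).1) (hwa i)]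
    exact one_lt_pow₀ (hwa i) (by omega)
  obtain ⟨N', W, g, hN', hxW, -, honly, hxg, hg⟩ := hwN (ores hUX H) hwH
  have hWX : W ⊓ X ≤ W ⊓ U := fun y ⟨hyW, hyX⟩ =>
    ⟨hyW, by_contra fun h => hx (honly y hyW h ▸ hyX)⟩
  refine ⟨N', W, g, U, hUX, ι, w, hN', hxW, hxg, ?_, ?_, hwc, hwH⟩
  · have e := congrArg (ores hWX) hg
    simp only [map_mul, map_one, map_pow, ores_ores] at e ⊢
    exact e
  · by_contra hemp
    rw [not_nonempty_iff] at hemp
    obtain ⟨N'', W', g', hN'', hxW', -, -, -, hg'⟩ := hwN 0 fun i => isEmptyElim i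
    rw [zero_pow hN''.ne', map_zero, mul_zero] at hg'
    obtain ⟨y, hyW, hyU⟩ := hUd.inter_open_nonempty _ W'.2 ⟨x, hxW'⟩
    haveI : Nonempty (W' ⊓ U : Y.Opens) := ⟨⟨y, hyW, hyU⟩⟩
    exact zero_ne_one hg'

omit [IsProper (Y ↘ Spec (CommRingCat.of k))] [IsIntegral Y] in
/-- Over the open the closure of a graph adds nothing. -/
theorem graph_closed {S Z : Scheme.{u}} {q : Y ⟶ S} [IsSeparated q] (X : Y.Opens) (φ : X.toScheme ⟶ Z) (t : Z ⟶ S)
    [IsSeparated t] (j : X.toScheme ⟶ pullback q t) (h₁ : j ≫ pullback.fst q t = X.ι)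
    (h₂ : j ≫ pullback.snd q t = φ) (z : (pullback q t : Scheme.{u})) (hz : pullback.fst q t z ∈ X)
    (hcl : z ∈ closure (Set.range j)) : z ∈ Set.range j := by
  let O := pullback.fst q t ⁻¹ᵁ X
  let π : O.toScheme ⟶ X.toScheme := pullback.fst q t ∣_ X
  have hr : Set.range j ⊆ Set.range O.ι := by
    rw [Scheme.Opens.range_ι]
    rintro _ ⟨x, rfl⟩
    show pullback.fst q t (j x) ∈ X
    rw [← Scheme.Hom.comp_apply, h₁]; exact x.2
  let j' := IsOpenImmersion.lift O.ι j hr
  have hj' : j' ≫ π = 𝟙 _ := by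
    rw [← cancel_mono X.ι, Category.assoc, morphismRestrict_ι, IsOpenImmersion.lift_fac_assoc, h₁,
      Category.id_comp]
  haveI : IsSeparated π := IsZariskiLocalAtTarget.restrict (inferInstance : IsSeparated (pullback.fst q t)) X
  haveI : IsClosedImmersion (j' ≫ π) := by rw [hj']; infer_instance
  haveI : IsClosedImmersion j' := IsClosedImmersion.of_comp j' π
  have h3 : (⟨z, hz⟩ : O.toScheme) ∈ closure (Set.range j') := by
    rw [O.ι.isOpenEmbedding.isInducing.closure_eq_preimage_closure_image]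
    show z ∈ closure _
    rwa [← Set.range_comp, ← TopCat.coe_comp, ← Scheme.Hom.comp_base, IsOpenImmersion.lift_fac]
  rw [j'.isClosedEmbedding.isClosed_range.closure_eq] at h3
  obtain ⟨x, hx⟩ := h3
  refine ⟨x, ?_⟩
  rw [← IsOpenImmersion.lift_fac O.ι j hr, Scheme.Hom.comp_apply]
  exact congrArg O.ι hx

omit [Y.Over (Spec (CommRingCat.of k))] [IsProper (Y ↘ Spec (CommRingCat.of k))] [IsIntegral Y] in
/-- Transport of `g H ^ N = 1` to the open subscheme. -/
theorem graph_eq (X : Y.Opens) {W : Y.Opens} {O : X.toScheme.Opens} (hle : O ≤ X.ι ⁻¹ᵁ W) (g : Γ(Y, W))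
    (H : Γ(Y, X)) (N : ℕ) (h : ores (inf_le_left : W ⊓ X ≤ W) g * ores (inf_le_right : W ⊓ X ≤ X) (H ^ N) = 1) :
    ores hle ((X.ι.app W).hom g) * ores (le_top : O ≤ ⊤) (X.topIso.inv H) ^ N = 1 := by
  have hO : X.ι ''ᵁ O ≤ W ⊓ X := le_inf ((X.ι.image_mono hle).trans (X.ι.image_preimage_le W))
    ((X.ι.image_le_opensRange O).trans (Scheme.Opens.opensRange_ι X).le)
  have e := congrArg (ores hO) h
  simp only [map_mul, map_one, map_pow, ores_ores] at e
  have e1 : ores hle ((X.ι.app W).hom g) = ores (hO.trans inf_le_left) g := by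
    show (X.toScheme.presheaf.map (homOfLE hle).op).hom ((X.ι.app W).hom g) = _
    erw [← ConcreteCategory.comp_apply, ← Functor.map_comp]
    rfl
  have e2 : ores (le_top : O ≤ ⊤) (X.topIso.inv H) = ores (hO.trans inf_le_right) H := by
    show (X.toScheme.presheaf.map (homOfLE le_top).op).hom (X.topIso.inv.hom H) = _
    erw [← ConcreteCategory.comp_apply, ← Functor.map_comp]
    rfl
  rw [e1, e2]
  exact e

omit [Y.Over (Spec (CommRingCat.of k))] [IsProper (Y ↘ Spec (CommRingCat.of k))] [IsIntegral Y] in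
theorem closed_of_ne_generic {Z : Scheme.{u}} (hdim : topologicalKrullDim Z ≤ 1) {η x : Z}
    (hη : ∀ y : Z, η ⤳ y) (hx : x ≠ η) : IsClosed ({x} : Set Z) := by
  refine DimTheory.isClosed_of_height_eq_zero ?_
  by_contra h0
  have hlt : x < η := by
    rw [lt_iff_le_not_ge]
    exact ⟨hη x, fun h => hx ((hη x).antisymm h).eq.symm⟩
  have h1 : Order.height η ≤ 1 := WithBot.coe_le_coe.1
    ((le_iSup (fun z : Z => (Order.height z : WithBot ℕ∞)) η).trans
      ((DimTheory.topologicalKrullDim_eq_iSup_height Z).ge.trans hdim))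
  have h3 := (add_le_add (Order.one_le_iff_pos.2 (pos_iff_ne_zero.2 h0)) le_rfl).trans
    ((Order.height_add_one_le hlt).trans h1)
  norm_num at h3

omit [Y.Over (Spec (CommRingCat.of k))] [IsProper (Y ↘ Spec (CommRingCat.of k))] [IsIntegral Y] in
theorem no_algebraic {R : Type u} [CommRing R] [Nontrivial R] (v : Valuation R Γ₀) (ρ : k →+* R)
    (hρ : ∀ a, v (ρ a) ≤ 1) {x : R} (hx : 1 < v x) {p : k[X]} (hp : p ≠ 0) (h : p.eval₂ ρ x = 0) : False := by
  let q := p * Polynomial.C p.leadingCoeff⁻¹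
  have hq : q.Monic := Polynomial.monic_mul_leadingCoeff_inv hp
  have hq0 : q.eval₂ ρ x = 0 := by rw [Polynomial.eval₂_mul, h, zero_mul]
  rw [hq.as_sum, Polynomial.eval₂_add, Polynomial.eval₂_finset_sum, Polynomial.eval₂_X_pow] at hq0
  simp only [Polynomial.eval₂_mul, Polynomial.eval₂_C, Polynomial.eval₂_X_pow] at hq0
  have hlt : v (∑ i ∈ Finset.range q.natDegree, ρ (q.coeff i) * x ^ i) < v (x ^ q.natDegree) := by
    rw [map_pow]
    refine Valuation.map_sum_lt v (pow_ne_zero _ (ne_of_gt (zero_lt_one.trans hx))) fun m hm => ?_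
    rw [map_mul, map_pow]
    exact lt_of_le_of_lt (mul_le_of_le_one_left' (hρ _)) (pow_lt_pow_right₀ hx (Finset.mem_range.1 hm))
  have := Valuation.map_add_eq_of_lt_left v hlt
  rw [hq0, map_zero, map_pow] at this
  exact pow_ne_zero _ (ne_of_gt (zero_lt_one.trans hx)) this.symm

omit [IsProper (Y ↘ Spec (CommRingCat.of k))] [IsIntegral Y] in
theorem transfer_eval {U X : Y.Opens} (hUX : U ≤ X) (H : Γ(Y, X)) (p : k[X])
    (h : p.eval₂ (X.topIso.inv.hom.comp (const X)) (X.topIso.inv.hom H) = 0) :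
    p.eval₂ (const U) (ores hUX H) = 0 := by
  have hid : ∀ y, ores hUX (X.topIso.hom.hom (X.topIso.inv.hom y)) = ores hUX y := fun y => by
    exact congrArg (ores hUX) (ConcreteCategory.congr_hom X.topIso.inv_hom_id y)
  have := congrArg ((ores hUX).comp X.topIso.hom.hom) h
  rw [map_zero, Polynomial.hom_eval₂] at this
  rw [← this]
  refine congrArg₂ (fun ρ x => Polynomial.eval₂ ρ x p) (RingHom.ext fun a => ?_) (hid H).symm
  exact ((hid _).trans (ores_const hUX a)).symm

include k in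
/-- The complement of a non-empty finite set of closed points in a proper integral curve is affine. -/
theorem isAffineOpen_compl (hdim : topologicalKrullDim Y ≤ 1) (X : Y.Opens) (hX : (X : Set Y).Nonempty)
    (hne : X ≠ ⊤) (hfin : ((X : Set Y)ᶜ).Finite) : IsAffineOpen X := by
  classical
  haveI : IsLocallyNoetherian Y := LocallyOfFiniteType.isLocallyNoetherian (Y ↘ Spec (CommRingCat.of k))
  haveI : CompactSpace Y := QuasiCompact.compactSpace_of_compactSpace (Y ↘ Spec (CommRingCat.of k))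
  haveI : IsNoetherian Y := {}
  obtain ⟨H, hH⟩ := exists_poles (k := k) hdim X hX hfin
  let f : X.toScheme ⟶ Spec (CommRingCat.of k) := X.ι ≫ Y ↘ Spec (CommRingCat.of k)
  let A₁ : CommRingCat.{u} := CommRingCat.of k[X]
  let θ : A₁ ⟶ Γ(X.toScheme, ⊤) := CommRingCat.ofHom
    (Polynomial.eval₂RingHom (X.topIso.inv.hom.comp (const X)) (X.topIso.inv.hom H))
  let φ : X.toScheme ⟶ Spec A₁ := X.toScheme.toSpecΓ ≫ Spec.map θ
  let t : Spec A₁ ⟶ Spec (CommRingCat.of k) := Spec.map (CommRingCat.ofHom Polynomial.C)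
  have hcomm : X.ι ≫ (Y ↘ Spec (CommRingCat.of k)) = φ ≫ t := by
    apply ext_to_Spec
    apply CommRingCat.hom_ext
    refine RingHom.ext fun a => ?_
    have h1 : (X.ι ≫ (Y ↘ Spec (CommRingCat.of k))).appTop ((Scheme.ΓSpecIso (CommRingCat.of k)).inv a) =
        X.topIso.inv (const X a) := by
      rw [Scheme.Hom.comp_appTop, Scheme.Opens.ι_appTop, CommRingCat.comp_apply]
      show _ = X.topIso.inv.hom (ores (le_top : X ≤ ⊤) (Coh.toGlobal (Y ↘ Spec (CommRingCat.of k)) a))
      show _ = (Y.presheaf.map (eqToHom X.ι_image_top).op).hom (_ : Γ(Y, X))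
      erw [← ConcreteCategory.comp_apply (Y.presheaf.map _) (Y.presheaf.map _), ← Functor.map_comp]
      rfl
    have h2 : (φ ≫ t).appTop ((Scheme.ΓSpecIso (CommRingCat.of k)).inv a) = θ (Polynomial.C a) := by
      rw [Scheme.Hom.comp_appTop]
      have := ConcreteCategory.congr_hom (Scheme.ΓSpecIso_inv_naturality (CommRingCat.ofHom (Polynomial.C (R := k)))) a
      simp only [CommRingCat.comp_apply] at this ⊢
      rw [show t.appTop ((Scheme.ΓSpecIso (CommRingCat.of k)).inv a) = (Scheme.ΓSpecIso A₁).inv (Polynomial.C a)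
        from this.symm]
      exact ProjBC.appTop_toSpecΓ θ _
    exact h1.trans ((Eq.symm (Polynomial.eval₂_C (X.topIso.inv.hom.comp (const X)) (X.topIso.inv.hom H))).trans h2.symm)
  let j : X.toScheme ⟶ pullback (Y ↘ Spec (CommRingCat.of k)) t := pullback.lift X.ι φ hcomm
  let T : Γ(Spec A₁, ⊤) := (Scheme.ΓSpecIso A₁).inv Polynomial.X
  have hjT : φ.appTop T = X.topIso.inv H := (ProjBC.appTop_toSpecΓ θ _).trans (Polynomial.eval₂_X _ _)
  haveI : IsImmersion (j ≫ pullback.fst (Y ↘ Spec (CommRingCat.of k)) t) := by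
    rw [show j ≫ pullback.fst _ _ = X.ι from pullback.lift_fst _ _ _]; infer_instance
  haveI : IsImmersion j := IsImmersion.of_comp j (pullback.fst (Y ↘ Spec (CommRingCat.of k)) t)
  have hclosed : IsClosed (Set.range j) := by
    refine closure_subset_iff_isClosed.1 fun z hz => ?_
    let p₁ := pullback.fst (Y ↘ Spec (CommRingCat.of k)) t
    let p₂ := pullback.snd (Y ↘ Spec (CommRingCat.of k)) t
    have hfst : ∀ x, p₁ (j x) = X.ι x := fun x => by
      rw [← Scheme.Hom.comp_apply, show j ≫ p₁ = X.ι from pullback.lift_fst _ _ _]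
    by_cases hzX : p₁ z ∈ X
    · -- over `X` the range is the graph
      obtain ⟨x, hx⟩ := graph_closed X φ t j (pullback.lift_fst _ _ _) (pullback.lift_snd _ _ _) z hzX hz
      exact ⟨x, hx⟩
    · exfalso
      obtain ⟨N, W, g, U, hUX, ι, w, hN, hcW, hcg, hgH, -, -, -⟩ := hH _ hzX
      let O : (pullback (Y ↘ Spec (CommRingCat.of k)) t).Opens := p₁ ⁻¹ᵁ W
      let Fn : Γ(pullback (Y ↘ Spec (CommRingCat.of k)) t, O) :=
        (p₁.app W).hom g * ores (le_top : O ≤ ⊤) (p₂.appTop.hom T) ^ N - 1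
      have hzO : z ∈ O := hcW
      have hzF : z ∈ (pullback (Y ↘ Spec (CommRingCat.of k)) t).basicOpen Fn := by
        rw [Scheme.mem_basicOpen _ _ z hzO, map_sub, map_one, map_mul]
        have hnu : ¬IsUnit ((pullback (Y ↘ Spec (CommRingCat.of k)) t).presheaf.germ O z hzO ((p₁.app W).hom g)) := by
          intro hu
          have hz' := (Scheme.mem_basicOpen _ _ z hzO).2 hu
          erw [← Scheme.preimage_basicOpen] at hz'
          exact hcg hz'
        have hm : _ ∈ IsLocalRing.maximalIdeal ((pullback (Y ↘ Spec (CommRingCat.of k)) t).presheaf.stalk z) :=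
          Ideal.mul_mem_right ((pullback (Y ↘ Spec (CommRingCat.of k)) t).presheaf.germ O z hzO
            (ores (le_top : O ≤ ⊤) (p₂.appTop.hom T) ^ N)) _ ((IsLocalRing.mem_maximalIdeal _).2 hnu)
        rw [← neg_sub, IsUnit.neg_iff]
        exact (IsLocalRing.isUnit_or_isUnit_one_sub_self _).resolve_left ((IsLocalRing.mem_maximalIdeal _).1 hm)
      obtain ⟨_, hF, x, rfl⟩ := mem_closure_iff.1 hz _ ((pullback (Y ↘ Spec (CommRingCat.of k)) t).basicOpen Fn).2 hzF
      have hx : x ∈ j ⁻¹ᵁ (pullback (Y ↘ Spec (CommRingCat.of k)) t).basicOpen Fn := hF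
      rw [Scheme.preimage_basicOpen] at hx
      have h0 : (j.app O).hom Fn = 0 := by
        have hle : j ⁻¹ᵁ O ≤ X.ι ⁻¹ᵁ W := fun x hx => by
          show X.ι x ∈ W
          rw [← hfst]; exact hx
        have e1 : (j.app O).hom ((p₁.app W).hom g) = ores hle ((X.ι.app W).hom g) := by
          have := Scheme.Hom.congr_app (show j ≫ p₁ = X.ι from pullback.lift_fst _ _ _) W
          rw [Scheme.Hom.comp_app] at this
          exact ConcreteCategory.congr_hom this g
        have e2 : (j.app O).hom (ores (le_top : O ≤ ⊤) (p₂.appTop.hom T)) = ores le_top (X.topIso.inv H) := by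
          have h1 := ConcreteCategory.congr_hom (j.naturality (homOfLE (le_top : O ≤ ⊤)).op) (p₂.appTop.hom T)
          simp only [CommRingCat.comp_apply] at h1
          refine h1.trans ?_
          rw [← hjT, ← show j ≫ p₂ = φ from pullback.lift_snd _ _ _]
          rfl
        simp only [Fn, map_sub, map_mul, map_pow, map_one, e1, e2, sub_eq_zero]
        exact graph_eq X hle g H N hgH
      rw [h0, Scheme.basicOpen_zero] at hx
      exact hx
  haveI : IsClosedImmersion j := .of_isPreimmersion _ hclosed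
  haveI : IsProper φ := by
    rw [← show j ≫ pullback.snd _ _ = φ from pullback.lift_snd _ _ _]
    infer_instance
  -- finite fibres
  let η : X.toScheme := ⟨genericPoint Y, ((genericPoint_spec Y).mem_open_set_iff X.2).2 (by simpa using hX)⟩
  have hη : ∀ x : X.toScheme, η ⤳ x := fun x =>
    X.ι.isOpenEmbedding.isInducing.specializes_iff.1 (genericPoint_specializes (X.ι x))
  have hclosedpt : ∀ x : X.toScheme, x ≠ η → IsClosed ({x} : Set X.toScheme) := fun x hx =>
    closed_of_ne_generic ((X.ι.isOpenEmbedding.isInducing.topologicalKrullDim_le).trans hdim) hη hx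
  have htrans : ∀ q : Spec A₁, IsClosed ({q} : Set (Spec A₁)) → φ η ≠ q := fun q hq hφ => by
    have hmax : q.asIdeal.IsMaximal := (PrimeSpectrum.isClosed_singleton_iff_isMaximal q).1 hq
    obtain ⟨p, hp, hp0⟩ := Submodule.exists_mem_ne_zero_of_ne_bot
      (show q.asIdeal ≠ ⊥ from fun h => Polynomial.not_isField k
        (Ring.isField_iff_maximal_bot.2 (h ▸ hmax)))
    have hnu : η ∉ X.toScheme.basicOpen (θ p) := fun hb => by
      rw [← Scheme.toSpecΓ_preimage_basicOpen] at hb
      have : φ η ∈ PrimeSpectrum.basicOpen p := hb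
      rw [hφ] at this
      exact this hp
    have hz : θ p = 0 := by
      haveI : Nonempty X.toScheme := ⟨η⟩
      haveI : IsIntegral X.toScheme := isIntegral_of_isOpenImmersion X.ι
      refine (basicOpen_eq_bot_iff _).1 (eq_bot_iff.2 fun x hx => ?_)
      exact absurd ((hη x).mem_open (X.toScheme.basicOpen (θ p)).2 hx) hnu
    obtain ⟨c, hc⟩ := (Set.ne_univ_iff_exists_notMem _).1 (fun h => hne (Opens.ext h))
    obtain ⟨N, W, g, U, hUX, ι, w, -, -, -, -, ⟨i⟩, hwc, hwH⟩ := hH c hc
    haveI : Nontrivial Γ(Y, U) := by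
      by_contra hh
      rw [not_nontrivial_iff_subsingleton] at hh
      have := hwH i
      rw [Subsingleton.elim (ores hUX H) 0, map_zero] at this
      exact not_lt_zero this
    exact no_algebraic (w i) (const U) (hwc i) (hwH i) hp0 (transfer_eval hUX H p hz)
  haveI : LocallyQuasiFinite φ := by
    refine .of_finite_preimage_singleton φ fun q => ?_
    by_cases hq : IsClosed ({q} : Set (Spec A₁))
    · haveI : IsLocallyNoetherian X.toScheme := isLocallyNoetherian_of_isOpenImmersion X.ι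
      haveI : NoetherianSpace X.toScheme := X.ι.isOpenEmbedding.isInducing.noetherianSpace
      exact finite_of_forall_closed (hq.preimage φ.continuous) fun x hx => hclosedpt x fun e =>
        htrans q hq (e ▸ hx)
    · refine (Set.finite_singleton η).subset fun x hx => ?_
      by_contra hne'
      refine hq ?_
      have := φ.isClosedMap _ (hclosedpt x hne')
      rwa [Set.image_singleton, show φ x = q from hx] at this
  haveI : IsFinite φ := IsFinite.of_isProper_of_locallyQuasiFinite φ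
  haveI : IsAffine X.toScheme := isAffine_of_isAffineHom φ
  exact inferInstanceAs (IsAffine X.toScheme)

end Groth.Agent.CurveQProj
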