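import Groth.Agent.DimOneAmple.Main
import Groth.Agent.ProjBC.Basic
import Groth.Agent.ProjUPLib.QProjAmple

/-!
# Quasi-projectivity in dimension at most one
-/

set_option autoImplicit false
set_option backward.isDefEq.respectTransparency false
set_option backward.isDefEq.respectTransparency.types false
set_option linter.style.haveILetI false

noncomputable section

universe u

open CategoryTheory CategoryTheory.Limits AlgebraicGeometry

namespace Groth.Agent.CurveQProj

/-- A scheme with an ample module, of finite type over a ring, is quasi-projective. -/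
theorem exists_immersion {R : Type u} [CommRing R] {X : Scheme.{u}} (f : X ⟶ Spec (CommRingCat.of R))
    [LocallyOfFiniteType f] (h : ∃ L : X.Modules, CohB1.IsAmple L) :
    ∃ (n : ℕ) (i : X ⟶ CohB1.ProjSpace n R), IsImmersion i ∧ QuasiCompact i ∧
      i ≫ CohB1.ProjSpace.toSpec n R = f := by
  obtain ⟨n, i, hi, hqc, hif⟩ := ProjUPLib.exists_immersion_of_ample f h
  obtain ⟨m, hm, hms⟩ := ProjBC.exists_iso.{u} n R
  haveI := hm
  haveI := hi
  haveI := hqc
  refine ⟨n, i ≫ inv m, inferInstance, inferInstance, ?_⟩
  rw [Category.assoc, ← hms, IsIso.inv_hom_id_assoc]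
  exact hif

/-- A separated finite type scheme over a field of dimension at most one has an ample module. -/
theorem exists_ample_of_finiteType {k : Type u} [Field k] {X : Scheme.{u}} (f : X ⟶ Spec (CommRingCat.of k))
    [IsSeparated f] [LocallyOfFiniteType f] [QuasiCompact f] (hdim : topologicalKrullDim X ≤ 1) :
    ∃ L : X.Modules, CohB1.IsAmple L := by
  haveI : IsLocallyNoetherian X := LocallyOfFiniteType.isLocallyNoetherian f
  haveI : CompactSpace X := QuasiCompact.compactSpace_of_compactSpace f
  haveI : IsNoetherian X := {}
  haveI : X.IsSeparated := ⟨by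
    rw [← terminal.comp_from f]
    infer_instance⟩
  exact DimOneAmple.exists_ample hdim

end Groth.Agent.CurveQProj
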