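import Groth.Agent.CechLinear.Basic
import Groth.Agent.CohFinite.Proper
import Groth.Agent.CohFinite.Devissage
import Groth.Agent.QCohBase.Localization

/-!
# Functions on the overlap of a two-affine cover of a proper scheme over a field
-/

set_option autoImplicit false
set_option backward.isDefEq.respectTransparency false
set_option backward.isDefEq.respectTransparency.types false
set_option linter.style.haveILetI false

noncomputable section

universe u

open CategoryTheory CategoryTheory.Limits AlgebraicGeometry Opposite TopologicalSpace HomologicalComplex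
open Groth.Agent.QCohBase Groth.Agent.CechLinear

namespace Groth.Agent.CurveQProj

/-- Cycles in degree one with vanishing class are boundaries. -/
theorem exists_cycleMap_one (K : CochainComplex AddCommGrpCat.{u} ℕ) :
    ∃ ψ : AddMonoidHom.ker (K.d 1 (1 + 1)).hom →+ K.homology 1,
      (∀ (Φ : K ⟶ K) (z w : AddMonoidHom.ker (K.d 1 (1 + 1)).hom), w.1 = Φ.f 1 z.1 →
        ψ w = homologyMap Φ 1 (ψ z)) ∧
      ∀ z, ψ z = 0 → ∃ u : K.X 0, K.d 0 1 u = z.1 := by
  let j : AddCommGrpCat.of (AddMonoidHom.ker (K.d 1 (1 + 1)).hom) ⟶ K.X 1 :=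
    AddCommGrpCat.ofHom (AddSubgroup.subtype _)
  have hj : j ≫ K.d 1 (1 + 1) = 0 := AddCommGrpCat.ext fun x => x.2
  let l := K.liftCycles j (1 + 1) (by simp) hj
  have hli : ∀ z, K.iCycles 1 (l z) = z.1 := fun z => by
    rw [← ConcreteCategory.comp_apply, liftCycles_i]
    rfl
  have hinj : Function.Injective (K.iCycles 1) := (AddCommGrpCat.mono_iff_injective _).1 inferInstance
  refine ⟨(l ≫ K.homologyπ 1).hom, fun Φ z w hw => ?_, fun z hz => ?_⟩
  · show K.homologyπ 1 (l w) = homologyMap Φ 1 (K.homologyπ 1 (l z))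
    rw [← ConcreteCategory.comp_apply (K.homologyπ 1), homologyπ_naturality,
      ConcreteCategory.comp_apply]
    refine congrArg (K.homologyπ 1) (hinj ?_)
    rw [hli, ← ConcreteCategory.comp_apply (cyclesMap _ 1), cyclesMap_i, ConcreteCategory.comp_apply,
      hli]
    exact hw
  · have hex : (ShortComplex.mk (K.toCycles 0 1) (K.homologyπ 1) (K.toCycles_comp_homologyπ 0 1)).Exact :=
      ShortComplex.exact_of_g_is_cokernel _ (K.homologyIsCokernel 0 1 (by simp))
    obtain ⟨u, hu⟩ := ((ShortComplex.ab_exact_iff _).1 hex) (l z) hz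
    refine ⟨u, ?_⟩
    rw [← hli z, ← hu, ← ConcreteCategory.comp_apply, toCycles_i]

variable {X : Scheme.{u}}

/-- Finite intersections of a two-affine cover of a separated scheme are affine. -/
theorem isAffineOpen_inter [X.IsSeparated] {ι : Type u} {V : ι → X.Opens} (hU : ∀ i, IsAffineOpen (V i)) :
    ∀ (n : ℕ) (i : Fin (n + 1) → ι), IsAffineOpen (inter V i) := by
  intro n
  induction n with
  | zero =>
    intro i
    have : inter V i = V (i 0) := le_antisymm (iInf_le _ _) (le_iInf fun a => by rw [show a = 0 from Fin.ext (by omega)])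
    rw [this]
    exact hU _
  | succ n ih =>
    intro i
    have : inter V i = V (i 0) ⊓ inter V (i ∘ Fin.succ) :=
      le_antisymm (le_inf (iInf_le _ 0) (le_iInf fun a => iInf_le _ a.succ))
        (le_iInf (Fin.cases inf_le_left fun a => inf_le_right.trans (iInf_le _ a)))
    rw [this]
    exact (hU _).inf (ih _)

/-- The sign of an edge. -/
def bval (b : Bool) : ℤ := if b then 1 else 0

variable (A B : X.Opens)

/-- The two-element cover. -/
def twoCov : ULift.{u} Bool → X.Opens := fun i => if i.down then B else A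

theorem inter_le_inf {n : ℕ} (i : Fin (n + 1) → ULift.{u} Bool) {a b : Fin (n + 1)} (h : i a ≠ i b) :
    inter (twoCov A B) i ≤ A ⊓ B := by
  have ha : inter (twoCov A B) i ≤ twoCov A B (i a) := iInf_le _ a
  have hb : inter (twoCov A B) i ≤ twoCov A B (i b) := iInf_le _ b
  generalize i a = p at h ha
  generalize i b = q at h hb
  obtain ⟨_ | _⟩ := p <;> obtain ⟨_ | _⟩ := q
  · exact absurd rfl h
  · exact le_inf ha hb
  · exact le_inf hb ha
  · exact absurd rfl h

/-- The alternating cochain of a function on the overlap. -/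
def edge (h : Γ(X, A ⊓ B)) : cochain (twoCov A B) (Coh.toAb (Coh.structureModule X)).obj (Fin 2) := fun i =>
  if hd : i 0 ≠ i 1 then
    (show Γ(X, inter (twoCov A B) i) from (bval (i 1).down - bval (i 0).down) • ores (inter_le_inf A B i hd) h)
  else (show Γ(X, inter (twoCov A B) i) from 0)

theorem res_edge (h : Γ(X, A ⊓ B)) {W : X.Opens} (j : Fin 2 → ULift.{u} Bool)
    (hW : W ≤ inter (twoCov A B) j) (hW' : W ≤ A ⊓ B) :
    (show Γ(X, W) from res (Coh.toAb (Coh.structureModule X)).obj hW (edge A B h j)) =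
      (bval (j 1).down - bval (j 0).down) • ores hW' h := by
  show ores hW (edge A B h j) = _
  unfold edge
  split_ifs with hd
  · erw [map_zsmul, ores_ores]
  · rw [not_not] at hd
    rw [hd, sub_self, zero_smul]
    exact map_zero _

theorem dCech_edge (h : Γ(X, A ⊓ B)) : dCech (twoCov A B) (Coh.toAb (Coh.structureModule X)).obj 1 (edge A B h) = 0 := by
  funext i
  let f : Fin 3 → Γ(X, inter (twoCov A B) i) := fun k =>
    res (Coh.toAb (Coh.structureModule X)).obj (inter_comp_le _ i k.succAbove) (edge A B h (i ∘ k.succAbove))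
  show ∑ k : Fin 3, (-1 : ℤ) ^ (k : ℕ) • f k = 0
  by_cases hall : i 0 = i 1 ∧ i 0 = i 2
  · have hc : ∀ a : Fin 3, i a = i 0 := fun a => by
      fin_cases a
      · rfl
      · exact hall.1.symm
      · exact hall.2.symm
    refine Finset.sum_eq_zero fun k _ => ?_
    have e : edge A B h (i ∘ k.succAbove) = (show Γ(X, inter (twoCov A B) (i ∘ k.succAbove)) from 0) := by
      unfold edge
      exact dif_neg (not_not.2 ((hc _).trans (hc _).symm))
    show _ • (ores (inter_comp_le _ i k.succAbove) (edge A B h (i ∘ k.succAbove)) : Γ(X, inter (twoCov A B) i)) = 0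
    rw [e]
    erw [map_zero]
    exact smul_zero _
  · have hW : inter (twoCov A B) i ≤ A ⊓ B := by
      rcases not_and_or.1 hall with h' | h' <;> exact inter_le_inf A B i h'
    have hf : ∀ k : Fin 3, f k =
        (bval (i (k.succAbove 1)).down - bval (i (k.succAbove 0)).down) • ores hW h :=
      fun k => res_edge A B h _ (inter_comp_le _ i _) hW
    rw [Fin.sum_univ_three, hf, hf, hf]
    simp only [show ((0 : Fin 3).succAbove 0) = 1 from rfl,
      show ((0 : Fin 3).succAbove 1) = 2 from rfl, show ((1 : Fin 3).succAbove 0) = 0 from rfl,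
      show ((1 : Fin 3).succAbove 1) = 2 from rfl, show ((2 : Fin 3).succAbove 0) = 0 from rfl,
      show ((2 : Fin 3).succAbove 1) = 1 from rfl, Fin.val_zero, Fin.val_one, Fin.val_two, smul_smul, ← add_smul]
    refine (congrArg (· • ores hW h) ?_).trans (zero_smul ℤ _)
    ring

variable {k : Type u} [Field k]

/-- The constants on an open. -/
def const [X.Over (Spec (CommRingCat.of k))] (U : X.Opens) : k →+* Γ(X, U) :=
  (ores (le_top : U ≤ ⊤)).comp (Coh.toGlobal (X ↘ Spec (CommRingCat.of k)))

theorem ores_const [X.Over (Spec (CommRingCat.of k))] {U V : X.Opens} (h : V ≤ U) (c : k) :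
    ores h (const U c) = const V c := ores_ores _ _ _

/-- Some combination of any sequence of functions on the overlap splits. -/
theorem exists_combination [X.Over (Spec (CommRingCat.of k))] [IsProper (X ↘ Spec (CommRingCat.of k))]
    (hA : IsAffineOpen A) (hB : IsAffineOpen B) (hcov : A ⊔ B = ⊤) (h : ℕ → Γ(X, A ⊓ B)) :
    ∃ (N : ℕ) (c : Fin N → k) (α : Γ(X, A)) (β : Γ(X, B)),
      h N + ∑ m, const (A ⊓ B) (c m) * h m = ores (inf_le_left : A ⊓ B ≤ A) α + ores (inf_le_right : A ⊓ B ≤ B) β := by
  classical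
  haveI : X.IsSeparated := ⟨by
    rw [← terminal.comp_from (X ↘ Spec (CommRingCat.of k))]
    infer_instance⟩
  let O := Coh.structureModule X
  haveI : Coh.IsQCoh O := TensorMod.isQCoh_structureModule X
  let V := twoCov A B
  have hV : ∀ (n : ℕ) (i : Fin (n + 1) → ULift.{u} Bool), IsAffineOpen (inter V i) :=
    isAffineOpen_inter (by rintro ⟨_ | _⟩ <;> assumption)
  have hcov' : ⨆ i, V i = ⊤ := by
    refine le_antisymm le_top (hcov.ge.trans (sup_le ?_ ?_))
    · exact le_iSup V ⟨false⟩
    · exact le_iSup V ⟨true⟩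
  haveI : Module.Finite k (Coh.HH X O 1) := CohFinite.finite_HH_proper O (Devissage.isCoh_structureModule X) 1
  obtain ⟨e, he⟩ := exists_cech_equiv V (S := affineSystem X) (acyclic_of_isQCoh O) hcov' hV 1
  obtain ⟨ψ, hnat, hker⟩ := exists_cycleMap_one (cech V (Coh.toAb O).obj)
  have hcyc : ∀ g : Γ(X, A ⊓ B),
      edge A B g ∈ AddMonoidHom.ker ((cech V (Coh.toAb O).obj).d 1 (1 + 1)).hom :=
    fun g => (cech_d_apply V _ 1 _).trans (dCech_edge A B g)
  have hadd : ∀ g g', edge A B (g + g') = edge A B g + edge A B g' := fun g g' => funext fun i => by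
    show _ = edge A B g i + edge A B g' i
    unfold edge
    split_ifs
    · show _ = (_ : Γ(X, inter (twoCov A B) i)) + _
      rw [map_add, smul_add]
    · exact (add_zero (0 : Γ(X, inter (twoCov A B) i))).symm
  have hsmul : ∀ (a : k) (g : Γ(X, A ⊓ B)), edge A B (const (A ⊓ B) a * g) = smulCoch V O a (edge A B g) :=
    fun a g => funext fun i => by
    show (_ : Γ(X, inter (twoCov A B) i)) =
      const (inter (twoCov A B) i) a * (show Γ(X, inter (twoCov A B) i) from edge A B g i)
    unfold edge
    split_ifs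
    · show _ • _ = _ * (_ : Γ(X, inter (twoCov A B) i))
      rw [map_mul, ores_const, mul_smul_comm]
    · exact (mul_zero _).symm
  let L : Γ(X, A ⊓ B) →+ Coh.HH X O 1 :=
    AddMonoidHom.mk' (fun g => e (ψ ⟨edge A B g, hcyc g⟩)) fun g g' => by
      rw [← map_add e, ← map_add ψ]
      exact congrArg (fun z => e (ψ z)) (Subtype.ext (hadd g g'))
  have hL : ∀ (a : k) g, L (const (A ⊓ B) a * g) = a • L g := fun a g => by
    show e (ψ _) = _
    rw [hnat ((cechSheafFunctor V).map (Coh.smulAb O (Coh.toGlobal (X ↘ Spec (CommRingCat.of k)) a)))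
      ⟨edge A B g, hcyc g⟩ ⟨edge A B (const (A ⊓ B) a * g), hcyc _⟩ (hsmul a g)]
    exact he _ _
  have hsplit : ∀ g, L g = 0 → ∃ (α : Γ(X, A)) (β : Γ(X, B)),
      g = ores (inf_le_left : A ⊓ B ≤ A) α + ores (inf_le_right : A ⊓ B ≤ B) β := fun g hg => by
    obtain ⟨w, hw⟩ := hker _ (e.injective (hg.trans (map_zero e).symm))
    rw [cech_d_apply] at hw
    let p : Fin 2 → ULift.{u} Bool := ![⟨false⟩, ⟨true⟩]
    let wA : Γ(X, A) := ores (le_iInf fun _ => le_rfl : A ≤ inter V fun _ : Fin 1 => ⟨false⟩) (w fun _ => ⟨false⟩)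
    let wB : Γ(X, B) := ores (le_iInf fun _ => le_rfl : B ≤ inter V fun _ : Fin 1 => ⟨true⟩) (w fun _ => ⟨true⟩)
    have hp : A ⊓ B ≤ inter V p := le_iInf fun a => by fin_cases a; exacts [inf_le_left, inf_le_right]
    refine ⟨-wA, wB, ?_⟩
    have e1 : ores hp (dCech V (Coh.toAb O).obj 0 w p) = ores hp (edge A B g p) :=
      congrArg (fun s => ores hp (s p)) hw
    have e2 : ores hp (edge A B g p) = g := by
      refine (res_edge A B g p hp le_rfl).trans ?_
      rw [show (ores (le_refl (A ⊓ B))) g = g from congrArg (fun φ => φ g) (CategoryTheory.Functor.map_id X.presheaf _)]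
      simp [p, bval]
    have h0 : p ∘ (0 : Fin 2).succAbove = fun _ : Fin 1 => (⟨true⟩ : ULift.{u} Bool) := funext fun a => by fin_cases a; rfl
    have h1 : p ∘ (1 : Fin 2).succAbove = fun _ : Fin 1 => (⟨false⟩ : ULift.{u} Bool) := funext fun a => by fin_cases a; rfl
    have key : ∀ (j : Fin 1 → ULift.{u} Bool) (j' : Fin 1 → ULift.{u} Bool) (hj : j = j') (h₁ : A ⊓ B ≤ inter V j)
        (h₂ : A ⊓ B ≤ inter V j'), ores h₁ (w j) = ores h₂ (w j') := by
      rintro j _ rfl h₁ h₂; rfl
    let f : Fin 2 → Γ(X, inter V p) := fun a =>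
      res (Coh.toAb O).obj (inter_comp_le V p a.succAbove) (w (p ∘ a.succAbove))
    have e3 : dCech V (Coh.toAb O).obj 0 w p = (show Γ(X, inter V p) from ∑ a : Fin 2, (-1 : ℤ) ^ (a : ℕ) • f a) := rfl
    rw [← e2, ← e1, e3]
    show ores hp (∑ a : Fin 2, (-1 : ℤ) ^ (a : ℕ) • f a) = _
    rw [Fin.sum_univ_two]
    simp only [Fin.val_zero, Fin.val_one, pow_zero, pow_one, one_smul, neg_smul]
    rw [map_add, map_neg, map_neg, add_comm]
    show -ores hp (ores (inter_comp_le V p _) (w _)) + ores hp (ores (inter_comp_le V p _) (w _)) =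
      -ores _ (ores _ (w fun _ => ⟨false⟩)) + ores _ (ores _ (w fun _ => ⟨true⟩))
    rw [ores_ores, ores_ores, ores_ores, ores_ores,
      key _ _ h0 _ ((inf_le_right : A ⊓ B ≤ B).trans (le_iInf fun _ => le_rfl)),
      key _ _ h1 _ ((inf_le_left : A ⊓ B ≤ A).trans (le_iInf fun _ => le_rfl))]
  obtain ⟨N, hN⟩ : ∃ N, L (h N) ∈ Submodule.span k (Set.range fun m : Fin N => L (h m)) := by
    by_contra! hno
    have hli : ∀ N, LinearIndependent k fun m : Fin N => L (h m) := by
      intro N
      induction N with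
      | zero => exact linearIndependent_empty_type
      | succ N ih =>
        rw [linearIndependent_finSucc']
        refine ⟨ih, ?_⟩
        exact hno N
    have := (hli (Module.finrank k (Coh.HH X O 1) + 1)).fintype_card_le_finrank
    simp at this
  obtain ⟨c, hc⟩ := (Submodule.mem_span_range_iff_exists_fun k).1 hN
  obtain ⟨α, β, he'⟩ := hsplit (h N + ∑ m, const (A ⊓ B) (-c m) * h m) (by
    rw [map_add, map_sum]
    simp only [hL, neg_smul, Finset.sum_neg_distrib, hc, add_neg_cancel])
  exact ⟨N, fun m => -c m, α, β, he'⟩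

end Groth.Agent.CurveQProj
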